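import Cfsg.Agent.Lib.ItoPSolv.Basic
import Cfsg.Agent.Lib.PSolvable.HallHigman
import Cfsg.Agent.Lib.Characters.Kernel
import Cfsg.Agent.Lib.BC78.CoprimeFix
import Mathlib.GroupTheory.Solvable

/-!
# Derived length of a Sylow subgroup against the degrees divisible by p
-/

set_option autoImplicit false
set_option linter.unusedSectionVars false
set_option linter.style.haveILetI false

namespace Cfsg.Agent.Lib.DerivedDegree.Basic

open Subgroup MulAction
open scoped commutatorElement
open Cfsg.Agent.Lib Cfsg.Agent.Lib.Characters Cfsg.Agent.Lib.Characters.Basic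
  Cfsg.Agent.Lib.Clifford.Basic

universe u

variable {G : Type u} [Group G] [Finite G] {p : ℕ} [hp : Fact p.Prime]

/-- The number of irreducible characters of degree divisible by `p`. -/
noncomputable def nDiv (p : ℕ) (G : Type u) [Group G] : ℕ :=
  Nat.card {χ : Cfsg.IrrCharacter G // p ∣ Cfsg.charDegree (χ : G → ℂ)}

/-- Some character of degree divisible by `p` is not trivial on `N`. -/
def HasDivOver (p : ℕ) (N : Subgroup G) : Prop :=
  ∃ χ : Cfsg.IrrCharacter G,
    p ∣ Cfsg.charDegree (χ : G → ℂ) ∧ ∃ x ∈ N, (χ : G → ℂ) x ≠ (χ : G → ℂ) 1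

theorem charDegree_infl (N : Subgroup G) [N.Normal] (φ : Cfsg.IrrCharacter (G ⧸ N)) :
    Cfsg.charDegree ((Kernel.inflateEquiv N φ).1 : G → ℂ) =
      Cfsg.charDegree (φ : G ⧸ N → ℂ) := by
  simp [Cfsg.charDegree, Kernel.inflateEquiv_apply]

theorem nDiv_quotient_le (N : Subgroup G) [N.Normal] : nDiv p (G ⧸ N) ≤ nDiv p G := by
  refine Nat.card_le_card_of_injective
    (fun φ => ⟨(Kernel.inflateEquiv N φ.1).1, by rw [charDegree_infl]; exact φ.2⟩) fun a b h => ?_
  exact Subtype.ext ((Kernel.inflateEquiv N).injective (Subtype.ext (congrArg (·.1) h)))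

theorem nDiv_quotient_lt (N : Subgroup G) [N.Normal] (h : HasDivOver p N) :
    nDiv p (G ⧸ N) < nDiv p G := by
  obtain ⟨χ, hχ, x, hxN, hx⟩ := h
  let f : Option {φ : Cfsg.IrrCharacter (G ⧸ N) // p ∣ Cfsg.charDegree (φ : G ⧸ N → ℂ)} →
      {χ : Cfsg.IrrCharacter G // p ∣ Cfsg.charDegree (χ : G → ℂ)} := fun o => o.elim ⟨χ, hχ⟩
    fun φ => ⟨(Kernel.inflateEquiv N φ.1).1, by rw [charDegree_infl]; exact φ.2⟩
  have hne : ∀ φ, f (some φ) ≠ f none := fun φ h => by
    have h' : (Kernel.inflateEquiv N φ.1).1 = χ := congrArg Subtype.val h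
    exact hx (h' ▸ (Kernel.inflateEquiv N φ.1).2 x hxN)
  have hf : Function.Injective f := by
    rintro (_ | a) (_ | b) h
    · rfl
    · exact absurd h.symm (hne b)
    · exact absurd h (hne a)
    · exact congrArg some (Subtype.ext ((Kernel.inflateEquiv N).injective
        (Subtype.ext (congrArg (·.1) h))))
  haveI : Finite {χ : Cfsg.IrrCharacter G // p ∣ Cfsg.charDegree (χ : G → ℂ)} := inferInstance
  have h := Nat.card_le_card_of_injective f hf
  rw [Finite.card_option] at h
  exact h

/-- With `O_p = 1`, a character of degree divisible by `p` is seen by `O_{p'}`. -/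
theorem hasDivOver_core (hs : Cfsg.IsPSolvable p G) (hU : Cfsg.pCore p G = ⊥)
    (hdvd : p ∣ Nat.card G) : HasDivOver p (Cfsg.pPrimeCore p G) := by
  classical
  by_contra hno
  set K := Cfsg.pPrimeCore p G with hK
  haveI := Fintype.ofFinite G
  haveI := Fintype.ofFinite K
  have hKp : ¬ p ∣ Nat.card K :=
    hp.out.coprime_iff_not_dvd.mp (PSolvable.card_pPrimeCore_coprime (p := p) (G := G)).symm
  set L := (Cfsg.pCore p (G ⧸ K)).comap (QuotientGroup.mk' K) with hL
  have hLle : ∀ S : Sylow p G, L ≤ (S : Subgroup G) ⊔ K := fun S => by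
    have h := (PSolvable.isPGroup_pCore (p := p) (G := G ⧸ K)).le_sylow_of_normal
      (S.mapSurjective (QuotientGroup.mk'_surjective K))
    rw [Sylow.coe_mapSurjective] at h
    refine (comap_mono h).trans ?_
    rw [comap_map_eq, QuotientGroup.ker_mk']
  obtain ⟨P⟩ : Nonempty (Sylow p G) := inferInstance
  set Q := (P : Subgroup G) ⊓ L with hQ
  have hfix : ∀ θ : Cfsg.IrrCharacter K, ∀ u ∈ Q, conjC K u (θ : K → ℂ) = (θ : K → ℂ) := by
    intro θ u hu
    by_cases h1 : θ = oneChar K
    · funext k
      rw [conjC_apply, h1, oneChar_apply, oneChar_apply]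
    obtain ⟨χ, hχ⟩ := PrimeDegrees.Solvable.exists_above K θ
    have hdeg : ¬ p ∣ Cfsg.charDegree (χ : G → ℂ) := fun hd => hno ⟨χ, hd, by
      by_contra hall
      push Not at hall
      apply hχ
      have : (fun k : K => (χ : G → ℂ) k) =
          (χ : G → ℂ) 1 • (oneChar K : K → ℂ) := funext fun k => by
        rw [Pi.smul_apply, oneChar_apply, smul_eq_mul, mul_one]
        exact hall k k.2
      rw [this]
      have h0 := classInner_irr_of_ne (Ne.symm h1)
      simp only [Cfsg.classInner, Pi.smul_apply, smul_eq_mul, mul_assoc, ← Finset.mul_sum] at h0 ⊢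
      rw [mul_left_comm, h0, mul_zero]⟩
    set T := inertia K (θ : K → ℂ) with hT
    have hidx : ¬ p ∣ T.index := by
      intro hd
      obtain ⟨e, he⟩ := exists_classInner_nat (isCharacter_comp K.subtype (isCharacter_irr χ))
        (isCharacter_irr θ)
      have hc := clifford_degree K χ.2 θ hχ
      rw [show (fun n : K => (χ : G → ℂ) n) = (χ : G → ℂ) ∘ K.subtype from rfl, he,
        BlocksChars5.Basic.apply_one, BlocksChars5.Basic.apply_one, ← Nat.cast_mul,
        ← Nat.cast_mul] at hc
      refine hdeg ?_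
      rw [Nat.cast_injective hc]
      exact dvd_mul_of_dvd_left (dvd_mul_of_dvd_right hd _) _
    obtain ⟨S⟩ : Nonempty (Sylow p T) := inferInstance
    obtain ⟨S', hS'⟩ := (S.2.map T.subtype).exists_le_sylow
    have hS'eq : (S : Subgroup T).map T.subtype = (S' : Subgroup G) := by
      refine eq_of_le_of_card_ge hS' (Nat.le_of_eq ?_)
      rw [card_map_of_injective T.subtype_injective, S.card_eq_multiplicity,
        S'.card_eq_multiplicity, ← T.card_mul_index,
        Nat.factorization_mul Nat.card_pos.ne' T.index_ne_zero_of_finite, Finsupp.add_apply,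
        Nat.factorization_eq_zero_of_not_dvd hidx, add_zero]
    exact (mem_inertia K).mp (sup_le (hS'eq ▸ map_subtype_le _)
      (le_inertia K (isClassFunction_irr θ)) (hLle S' hu.2))
  have hQp : IsPGroup p Q := P.2.to_le inf_le_left
  have hcent : ∀ u ∈ Q, ∀ k ∈ K, u * k = k * u := by
    set C : Subgroup K := (centralizer (Q : Set G)).comap K.subtype with hC
    have htop : C = ⊤ := by
      refine ItoPSolv.Basic.eq_top_of_conj_mem C fun n => ?_
      have hconj : ∀ u ∈ Q, ∀ m : K,
          IsConj m ⟨u * m * u⁻¹, Normal.conj_mem inferInstance _ m.2 u⟩ := fun u hu m =>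
        (Complete.isConj_iff_forall_irr _ _).mpr fun θ =>
          (congrFun (hfix θ u hu) m).symm.trans (by rw [conjC_apply])
      letI : MulAction Q {m : K // IsConj n m} :=
        { smul := fun u m => ⟨⟨(u : G) * m.1 * (u : G)⁻¹, Normal.conj_mem inferInstance _ m.1.2 u⟩,
            m.2.trans (hconj u u.2 m.1)⟩
          one_smul := fun m => Subtype.ext (Subtype.ext (by
            show ((1 : Q) : G) * m.1 * ((1 : Q) : G)⁻¹ = m.1
            simp))
          mul_smul := fun a b m => Subtype.ext (Subtype.ext (by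
            show ((a * b : Q) : G) * m.1 * ((a * b : Q) : G)⁻¹ =
              (a : G) * ((b : G) * m.1 * (b : G)⁻¹) * (a : G)⁻¹
            simp [mul_assoc])) }
      have hnd : ¬ p ∣ Nat.card {m : K // IsConj n m} := fun hd => hKp (hd.trans
        ⟨_, (Complete.card_conjugates_mul_centralizer n).symm⟩)
      obtain ⟨m, hm⟩ := hQp.nonempty_fixed_point_of_prime_not_dvd_card _ hnd
      obtain ⟨a, ha⟩ := isConj_iff.mp m.2
      refine ⟨a⁻¹, ?_⟩
      rw [inv_inv, ha]
      refine mem_comap.mpr (mem_centralizer_iff.mpr fun u hu => ?_)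
      have := congrArg (fun z : {m : K // IsConj n m} => (z.1 : G)) (hm ⟨u, hu⟩)
      exact mul_inv_eq_iff_eq_mul.mp this
    intro u hu k hk
    have : (⟨k, hk⟩ : K) ∈ C := htop ▸ mem_top _
    exact mem_centralizer_iff.mp this u hu
  haveI : L.Normal := Normal.comap inferInstance _
  have hsplit : ∀ l ∈ L, ∃ u ∈ Q, ∃ k ∈ K, u * k = l := by
    intro l hl
    obtain ⟨u, hu, k, hk, rfl⟩ := mem_sup_of_normal_right.mp (hLle P hl)
    refine ⟨u, Subgroup.mem_inf.mpr ⟨hu, ?_⟩, k, hk, rfl⟩
    have hkL : k ∈ L := by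
      rw [hL, mem_comap, QuotientGroup.mk'_apply, (QuotientGroup.eq_one_iff k).mpr hk]
      exact one_mem _
    have := L.mul_mem hl (L.inv_mem hkL)
    rwa [mul_inv_cancel_right] at this
  haveI hQn : Q.Normal := by
    refine ⟨fun q hq g => ?_⟩
    obtain ⟨u, hu, k, hk, he⟩ := hsplit (g * q * g⁻¹) (Normal.conj_mem inferInstance q hq.2 g)
    suffices k = 1 by rw [← he, this, mul_one]; exact hu
    obtain ⟨a, ha⟩ := hQp ⟨q, hq⟩
    obtain ⟨b, hb⟩ := hQp ⟨u, hu⟩
    have ha' : q ^ p ^ a = 1 := congrArg Subtype.val ha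
    have hb' : u ^ p ^ b = 1 := congrArg Subtype.val hb
    have hk1 : k ^ p ^ (a + b) = 1 := by
      have h1 : (u * k) ^ p ^ (a + b) = 1 := by
        rw [he, conj_pow, pow_add, pow_mul, ha', one_pow, mul_one, mul_inv_cancel]
      rwa [(show Commute u k from hcent u hu k hk).mul_pow,
        show u ^ p ^ (a + b) = 1 by rw [pow_add, mul_comm, pow_mul, hb', one_pow], one_mul] at h1
    refine orderOf_eq_one_iff.mp (Nat.eq_one_of_dvd_coprimes (Nat.Coprime.pow_left (a + b)
      (hp.out.coprime_iff_not_dvd.mpr hKp)) (orderOf_dvd_of_pow_eq_one hk1) ?_)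
    rw [← orderOf_mk k hk]
    exact orderOf_dvd_natCard _
  have hQ1 : Q = ⊥ := le_bot_iff.mp (hU ▸ PSolvable.le_pCore inferInstance hQp)
  have hLK : Cfsg.pCore p (G ⧸ K) = ⊥ := by
    rw [eq_bot_iff]
    intro y hy
    obtain ⟨l, rfl⟩ := QuotientGroup.mk'_surjective K y
    obtain ⟨u, hu, k, hk, rfl⟩ := hsplit l hy
    rw [hQ1, mem_bot] at hu
    rw [mem_bot, hu, one_mul, QuotientGroup.mk'_apply, QuotientGroup.eq_one_iff]
    exact hk
  haveI : Nontrivial (G ⧸ K) := by
    refine Finite.one_lt_card_iff_nontrivial.mp ?_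
    rw [← Subgroup.index_eq_card]
    refine lt_of_le_of_ne (Nat.one_le_iff_ne_zero.mpr K.index_ne_zero_of_finite) fun h => hKp ?_
    have := K.card_mul_index
    rw [← h, mul_one] at this
    rwa [this]
  rcases PSolvable.cores_ne_bot (PSolvable.isPSolvable_quotient hs K) with h | h
  · exact h hLK
  · exact h (PSolvable.pPrimeCore_quotient_eq_bot K rfl)

/-- A vanishing derived term in the quotient pulls back into the kernel. -/
theorem derived_map_le (P : Sylow p G) (N : Subgroup G) [N.Normal] (k : ℕ)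
    (h : derivedSeries (P.mapSurjective (QuotientGroup.mk'_surjective N) : Subgroup (G ⧸ N)) k = ⊥) :
    (derivedSeries (P : Subgroup G) k).map (P : Subgroup G).subtype ≤ N := by
  let f : (P : Subgroup G) →* (P.mapSurjective (QuotientGroup.mk'_surjective N) : Subgroup (G ⧸ N)) :=
    ((QuotientGroup.mk' N).comp (P : Subgroup G).subtype).codRestrict _ fun x => by
      rw [Sylow.coe_mapSurjective]
      exact ⟨x, x.2, rfl⟩
  have hle := map_derivedSeries_le_derivedSeries f k
  rw [h, le_bot_iff, Subgroup.map_eq_bot_iff] at hle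
  rintro _ ⟨x, hx, rfl⟩
  exact (QuotientGroup.eq_one_iff _).mp (congrArg Subtype.val (hle hx))

theorem derived_succ_eq_bot (P : Sylow p G) (N : Subgroup G) (k : ℕ)
    (h : (derivedSeries (P : Subgroup G) k).map (P : Subgroup G).subtype ≤ N)
    (hN : ∀ a ∈ N, ∀ b ∈ N, a * b = b * a) :
    derivedSeries (P : Subgroup G) (k + 1) = ⊥ := by
  rw [derivedSeries_succ, eq_bot_iff, Subgroup.commutator_le]
  intro a ha b hb
  rw [mem_bot, commutatorElement_eq_one_iff_mul_comm]
  exact Subtype.ext (hN _ (h ⟨a, ha, rfl⟩) _ (h ⟨b, hb, rfl⟩))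

/-- The derived length bound. -/
theorem derived_bound : ∀ (c : ℕ) (G : Type u) [Group G] [Finite G], Nat.card G ≤ c →
    Cfsg.IsPSolvable p G → ∀ P : Sylow p G,
      derivedSeries (P : Subgroup G) (nDiv p G + 1) = ⊥ ∧
        (Cfsg.pCore p G = ⊥ → derivedSeries (P : Subgroup G) (nDiv p G) = ⊥) := by
  intro c
  induction c with
  | zero => intro G _ _ hcard; exact absurd hcard (not_le.2 Nat.card_pos)
  | succ c ih =>
    intro G _ _ hcard hs P
    have hmono : ∀ {i j : ℕ}, i ≤ j → derivedSeries (P : Subgroup G) i = ⊥ →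
        derivedSeries (P : Subgroup G) j = ⊥ := fun hij h =>
      le_bot_iff.mp (h ▸ derivedSeries_antitone _ hij)
    by_cases hdvd : p ∣ Nat.card G
    swap
    · haveI : Subsingleton (P : Subgroup G) := by
        refine (Nat.card_eq_one_iff_unique.mp ?_).1
        rw [P.card_eq_multiplicity, Nat.factorization_eq_zero_of_not_dvd hdvd, pow_zero]
      exact ⟨Subgroup.eq_bot_of_subsingleton _, fun _ => Subgroup.eq_bot_of_subsingleton _⟩
    -- the quotient step
    have hquot : ∀ (N : Subgroup G) [N.Normal], N ≠ ⊥ →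
        ∀ k, (nDiv p (G ⧸ N) + 1 ≤ k ∨ (Cfsg.pCore p (G ⧸ N) = ⊥ ∧ nDiv p (G ⧸ N) ≤ k)) →
          (derivedSeries (P : Subgroup G) k).map (P : Subgroup G).subtype ≤ N := by
      intro N _ hN k hk
      have hlt : Nat.card (G ⧸ N) ≤ c := by
        have h1 : 1 < Nat.card N := by
          rw [Finite.one_lt_card_iff_nontrivial]
          exact N.nontrivial_iff_ne_bot.2 hN
        have h2 := N.card_eq_card_quotient_mul_card_subgroup
        have h3 : 0 < Nat.card (G ⧸ N) := Nat.card_pos
        nlinarith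
      obtain ⟨i1, i2⟩ := ih (G ⧸ N) hlt (PSolvable.isPSolvable_quotient hs N)
        (P.mapSurjective (QuotientGroup.mk'_surjective N))
      refine derived_map_le P N k ?_
      rcases hk with hk | ⟨hc, hk⟩
      · exact le_bot_iff.mp (i1 ▸ derivedSeries_antitone _ hk)
      · exact le_bot_iff.mp ((i2 hc) ▸ derivedSeries_antitone _ hk)
    by_cases hU : Cfsg.pCore p G = ⊥
    · have hdiv := hasDivOver_core hs hU hdvd
      have hK : Cfsg.pPrimeCore p G ≠ ⊥ := fun e => by
        obtain ⟨χ, -, x, hx, hne⟩ := hdiv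
        rw [e, mem_bot] at hx
        exact hne (hx ▸ rfl)
      have hle := hquot _ hK (nDiv p G)
        (Or.inl (nDiv_quotient_lt _ hdiv))
      have hbot : derivedSeries (P : Subgroup G) (nDiv p G) = ⊥ := by
        rw [eq_bot_iff]
        intro z hz
        have hzK : (z : G) ∈ Cfsg.pPrimeCore p G := hle ⟨z, hz, rfl⟩
        have hinf : (P : Subgroup G) ⊓ Cfsg.pPrimeCore p G = ⊥ := by
          refine inf_eq_bot_of_coprime ?_
          rw [P.card_eq_multiplicity]
          exact (PSolvable.card_pPrimeCore_coprime (p := p) (G := G)).symm.pow_left _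
        have : (z : G) ∈ (P : Subgroup G) ⊓ Cfsg.pPrimeCore p G := Subgroup.mem_inf.mpr ⟨z.2, hzK⟩
        rw [hinf, mem_bot] at this
        exact mem_bot.mpr (Subtype.ext this)
      exact ⟨hmono (Nat.le_succ _) hbot, fun _ => hbot⟩
    refine ⟨?_, fun h => absurd h hU⟩
    set U := Cfsg.pCore p G with hUdef
    by_cases hab : ∀ a ∈ U, ∀ b ∈ U, a * b = b * a
    · refine derived_succ_eq_bot P U _ (hquot U hU _ (Or.inr ?_)) hab
      exact ⟨PSolvable.pCore_quotient_eq_bot U rfl, nDiv_quotient_le U⟩
    -- the last nontrivial derived term of `U`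
    · obtain ⟨j, hj1, hj2, hj3⟩ : ∃ j, 1 ≤ j ∧ derivedSeries U j ≠ ⊥ ∧
          derivedSeries U (j + 1) = ⊥ := by
        haveI : Group.IsNilpotent U := (PSolvable.isPGroup_pCore (p := p) (G := G)).isNilpotent
        obtain ⟨m, hm⟩ := (inferInstance : Group.IsSolvable U).solvable
        have h1 : derivedSeries U 1 ≠ ⊥ := by
          intro h
          apply hab
          intro a ha b hb
          rw [derivedSeries_succ, derivedSeries_zero, eq_bot_iff, Subgroup.commutator_le] at h
          exact congrArg Subtype.val (commutatorElement_eq_one_iff_mul_comm.mp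
            (mem_bot.mp (h ⟨a, ha⟩ (mem_top _) ⟨b, hb⟩ (mem_top _))))
        classical
        set i := Nat.find (⟨m, hm⟩ : ∃ m, derivedSeries U m = ⊥) with hi
        have hi0 : derivedSeries U i = ⊥ := Nat.find_spec (⟨m, hm⟩ : ∃ m, derivedSeries U m = ⊥)
        have hi2 : 2 ≤ i := by
          by_contra hc
          exact h1 (le_bot_iff.mp (hi0 ▸ derivedSeries_antitone U (by omega : i ≤ 1)))
        refine ⟨i - 1, by omega,
          Nat.find_min (⟨m, hm⟩ : ∃ m, derivedSeries U m = ⊥) (show i - 1 < i by omega), ?_⟩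
        rwa [show i - 1 + 1 = i by omega]
      set M := (derivedSeries U j).map U.subtype with hM
      haveI : M.Normal := by rw [hM]; infer_instance
      have hMne : M ≠ ⊥ := fun h =>
        hj2 ((Subgroup.map_eq_bot_iff_of_injective _ U.subtype_injective).mp h)
      have hMab : ∀ a ∈ M, ∀ b ∈ M, a * b = b * a := by
        rintro _ ⟨a, ha, rfl⟩ _ ⟨b, hb, rfl⟩
        rw [derivedSeries_succ, eq_bot_iff, Subgroup.commutator_le] at hj3
        exact congrArg Subtype.val (commutatorElement_eq_one_iff_mul_comm.mp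
          (mem_bot.mp (hj3 a ha b hb)))
      refine derived_succ_eq_bot P M _ (hquot M hMne _ (Or.inl (nDiv_quotient_lt M ?_))) hMab
      haveI := Fintype.ofFinite G
      by_contra hno
      obtain ⟨⟨y, hyM⟩, hy1'⟩ := Subgroup.ne_bot_iff_exists_ne_one.mp hMne
      have hy1 : y ≠ 1 := fun e => hy1' (Subtype.ext e)
      apply hy1
      have hker : ∀ θ : Cfsg.IrrCharacter U, ∀ (hy : y ∈ U), (θ : U → ℂ) ⟨y, hy⟩ = (θ : U → ℂ) 1 := by
        intro θ hy
        haveI := Fintype.ofFinite U
        obtain ⟨χ, hχ⟩ := PrimeDegrees.Solvable.exists_above U θ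
        obtain ⟨χ', hχ'⟩ := PrimeDegrees.Solvable.degree_dvd_above U θ
        obtain ⟨e, he⟩ := exists_classInner_nat (isCharacter_comp U.subtype (isCharacter_irr χ))
          (isCharacter_irr θ)
        have hc := clifford_degree U χ.2 θ hχ
        rw [show (fun n : U => (χ : G → ℂ) n) = (χ : G → ℂ) ∘ U.subtype from rfl, he,
          BlocksChars5.Basic.apply_one, BlocksChars5.Basic.apply_one, ← Nat.cast_mul,
          ← Nat.cast_mul] at hc
        by_cases hlin : (θ : U → ℂ) 1 = 1
        · have hyd : (⟨y, hy⟩ : U) ∈ commutator U := by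
            rw [← derivedSeries_one]
            obtain ⟨a, ha, rfl⟩ := hyM
            exact derivedSeries_antitone U hj1 (by simpa using ha)
          rw [← Linear.degOneHom_apply (isCharacter_irr θ) hlin,
            ← Linear.degOneHom_apply (isCharacter_irr θ) hlin, map_one,
            Abelianization.commutator_subset_ker _ hyd]
        · have hd : p ∣ Cfsg.charDegree (θ : U → ℂ) := by
            obtain ⟨m, hm⟩ := IsPGroup.iff_card.mp (PSolvable.isPGroup_pCore (p := p) (G := G))
            have hdd := BlocksChars5.Basic.degree_dvd_card θ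
            rw [show Nat.card U = p ^ m from hm] at hdd
            obtain ⟨i, -, hi⟩ := (Nat.dvd_prime_pow hp.out).mp hdd
            rcases Nat.eq_zero_or_pos i with rfl | hi0
            · exact absurd (by rw [BlocksChars5.Basic.apply_one, hi, pow_zero, Nat.cast_one]) hlin
            · exact hi ▸ dvd_pow_self p hi0.ne'
          have hdχ : p ∣ Cfsg.charDegree (χ : G → ℂ) := by
            rw [Nat.cast_injective hc]; exact dvd_mul_of_dvd_right hd _
          have htriv : ∀ z ∈ M, (χ : G → ℂ) z = (χ : G → ℂ) 1 := fun z hz => by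
            by_contra hz'
            exact hno ⟨χ, hdχ, z, hz, hz'⟩
          have hθ := congrFun (character_eq_finsum
            (isCharacter_comp U.subtype (isCharacter_irr χ))) ⟨y, hy⟩
          exact BC78.CoprimeFix.constituent_ker (isCharacter_comp U.subtype (isCharacter_irr χ)) θ hχ
            (g := ⟨y, hy⟩) (htriv y hyM)
      have hyU : y ∈ U := map_subtype_le _ hyM
      exact congrArg Subtype.val (Complete.eq_one_of_forall_irr fun θ => hker θ hyU)

end Cfsg.Agent.Lib.DerivedDegree.Basic
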